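import Groth.Agent.Lib.BCField24.RpushColim


/-!
# Higher direct images commute with filtered colimits indexed by large categories
-/

set_option autoImplicit false
set_option linter.style.haveILetI false
set_option linter.unusedSectionVars false
set_option linter.overlappingInstances false
set_option backward.isDefEq.respectTransparency false
set_option backward.isDefEq.respectTransparency.types false

universe u

open CategoryTheory CategoryTheory.Limits AlgebraicGeometry Opposite

namespace Groth.Agent.BCField24

open Groth.Agent.EtStalk

variable {X S : Scheme.{u}} (f : X ⟶ S) [QuasiCompact f] [QuasiSeparated f]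

/-- The stalks of higher direct images at a strict henselization commute with filtered colimits. -/
theorem preservesColimitsOfShape_Rpush_stalk_large (s : S) (R : Type u) [CommRing R] [IsLocalRing R]
    [Algebra (S.presheaf.stalk s) R] [IsLocalHom (algebraMap (S.presheaf.stalk s) R)]
    [Hensel.IsStrictHenselization (S.presheaf.stalk s) R] [HenselianLocalRing R]
    [IsSepClosed (IsLocalRing.ResidueField R)] (n : ℕ) (J : Type (u + 1)) [SmallCategory J] [IsFiltered J] :
    PreservesColimitsOfShape J (EtCoh.Rpush f n ⋙ EtCoh.stalk (closedPt R ≫ Hens2.specOf S s R)) := by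
  obtain ⟨T⟩ := StrictLim24.nonempty_strictSys S s R
  obtain ⟨e⟩ := T.nonempty_stalk_Rpush_iso f n
  haveI := (EtCoh.pullPushAdj (pullback.fst f (Hens2.specOf S s R))).leftAdjoint_preservesColimits
  haveI h₁ : QuasiCompact (pullback.snd f (Hens2.specOf S s R)) :=
    MorphismProperty.pullback_snd _ _ inferInstance
  haveI h₂ : QuasiSeparated (pullback.snd f (Hens2.specOf S s R)) :=
    MorphismProperty.pullback_snd _ _ inferInstance
  haveI : CompactSpace ↥(pullback f (Hens2.specOf S s R)) :=
    QuasiCompact.compactSpace_of_compactSpace (pullback.snd f (Hens2.specOf S s R))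
  haveI : QuasiSeparatedSpace ↥(pullback f (Hens2.specOf S s R)) :=
    quasiSeparatedSpace_of_quasiSeparated (pullback.snd f (Hens2.specOf S s R))
  haveI := EtColim.preservesColimitsOfShape_HF (pullback f (Hens2.specOf S s R)) n J
  exact preservesColimitsOfShape_of_natIso e.symm

/-- Higher direct images along quasi-compact quasi-separated morphisms commute with filtered colimits. -/
theorem preservesColimitsOfShape_Rpush_large (n : ℕ) (J : Type (u + 1)) [SmallCategory J] [IsFiltered J] :
    PreservesColimitsOfShape J (EtCoh.Rpush f n) := by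
  refine ⟨fun {D} => preservesColimit_of_preserves_colimit_cocone (colimit.isColimit D) ?_⟩
  let c := (EtCoh.Rpush f n).mapCocone (colimit.cocone D)
  haveI : IsIso ((colimit.isColimit (D ⋙ EtCoh.Rpush f n)).desc c) := by
    rw [isIso_iff_stalk]
    intro Ω _ _ ξ
    obtain ⟨x, hx⟩ : ∃ x, ξ (IsLocalRing.closedPoint Ω) = x := ⟨_, rfl⟩
    obtain ⟨R, _, _, _, _, hR⟩ := StalkCrit24.exists_strictHenselization_of_local (S.presheaf.stalk x)
    haveI := hR
    haveI : HenselianLocalRing R := hR.henselian
    haveI : IsSepClosed (IsLocalRing.ResidueField R) := hR.isSepClosure.sep_closed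
    obtain ⟨ρ, rfl⟩ := StalkCrit24.exists_geo ξ hx R
    refine (StalkCrit24.bijective_stalk_geo_iff ρ (Hens2.specOf S x R) _).2 ?_
    let F := EtCoh.stalk (closedPt R ≫ Hens2.specOf S x R)
    haveI := preservesColimitsOfShape_Rpush_stalk_large f x R n J
    haveI : PreservesColimitsOfShape J F := inferInstance
    have h1 : IsColimit (F.mapCocone c) :=
      isColimitOfPreserves (EtCoh.Rpush f n ⋙ F) (colimit.isColimit D)
    have h2 : IsColimit (F.mapCocone (colimit.cocone (D ⋙ EtCoh.Rpush f n))) :=
      isColimitOfPreserves F (colimit.isColimit _)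
    have e : F.map ((colimit.isColimit (D ⋙ EtCoh.Rpush f n)).desc c) =
        (h2.coconePointUniqueUpToIso h1).hom := h2.hom_ext fun j => by
      rw [IsColimit.comp_coconePointUniqueUpToIso_hom]
      exact (F.map_comp _ _).symm.trans (congrArg F.map ((colimit.isColimit _).fac c j))
    rw [e]
    exact ConcreteCategory.bijective_of_isIso _
  exact IsColimit.ofPointIso (colimit.isColimit (D ⋙ EtCoh.Rpush f n)) (i := ‹_›)

end Groth.Agent.BCField24
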