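import Groth.Agent.Lib.BCField24.SepPointConst
import Groth.Agent.Lib.BCField24.RpushColimLarge

/-!
# Higher direct images of torsion sheaves from a point: reduction to constant cyclic coefficients
-/

set_option autoImplicit false
set_option linter.style.haveILetI false
set_option linter.unusedSectionVars false
set_option backward.isDefEq.respectTransparency.types false

universe w v u

open CategoryTheory CategoryTheory.Limits AlgebraicGeometry Opposite

namespace Groth.Agent.BCField24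

open Groth.Agent.LocAcyc24

section Generic

variable {C : Type w} [Category.{v} C] [Abelian C] (P : AddCommGrpCat.{u + 1} ⥤ C) [P.Additive]

theorem isZero_of_decomp {ι : Type} [Fintype ι] (A : AddCommGrpCat.{u + 1}) (B : ι → AddCommGrpCat.{u + 1})
    (π : ∀ i, A ⟶ B i) (ι' : ∀ i, B i ⟶ A) (hsum : ∑ i, π i ≫ ι' i = 𝟙 A) (h : ∀ i, IsZero (P.obj (B i))) :
    IsZero (P.obj A) := by
  rw [IsZero.iff_id_eq_zero, ← P.map_id, ← hsum, P.map_sum]
  exact Finset.sum_eq_zero fun i _ => by rw [P.map_comp, (h i).eq_of_tgt (P.map (π i)) 0, zero_comp]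

theorem isZero_of_finite (A : AddCommGrpCat.{u + 1}) [Finite A]
    (h : ∀ n : ℕ, 0 < n → (∃ a : A, addOrderOf a = n) →
      IsZero (P.obj (AddCommGrpCat.of (ULift.{u + 1} (ZMod n))))) : IsZero (P.obj A) := by
  classical
  obtain ⟨ι, hι, p, hp, e, ⟨φ⟩⟩ := AddCommGroup.equiv_directSum_zmod_of_finite A
  refine isZero_of_decomp P (ι := ι) A (fun i => AddCommGrpCat.of (ULift.{u + 1} (ZMod (p i ^ e i))))
    (fun i => AddCommGrpCat.ofHom (AddEquiv.ulift.symm.toAddMonoidHom.comp
      ((DFinsupp.evalAddMonoidHom i).comp φ.toAddMonoidHom)))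
    (fun i => AddCommGrpCat.ofHom ((φ.symm.toAddMonoidHom.comp
      (DirectSum.of (fun j => ZMod (p j ^ e j)) i)).comp AddEquiv.ulift.toAddMonoidHom)) ?_ fun i => ?_
  · ext a
    refine (congrFun (congrArg DFunLike.coe
      (map_sum (AddMonoidHom.mk' (fun f : A ⟶ A => f.hom) fun _ _ => rfl) _ Finset.univ)) a).trans ?_
    rw [AddMonoidHom.finsetSum_apply]
    show (∑ i, φ.symm (DirectSum.of (fun j => ZMod (p j ^ e j)) i ((φ a) i))) = a
    rw [← map_sum, DirectSum.sum_univ_of, φ.symm_apply_apply]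
  · refine h _ (pow_pos (hp i).pos _) ⟨φ.symm (DirectSum.of (fun j => ZMod (p j ^ e j)) i 1), ?_⟩
    refine (addOrderOf_injective φ.symm.toAddMonoidHom φ.symm.injective _).trans ?_
    rw [addOrderOf_injective (DirectSum.of (fun j => ZMod (p j ^ e j)) i) (DirectSum.of_injective i),
      ZMod.addOrderOf_one]

/-- An additive functor commuting with filtered colimits that vanishes on the cyclic groups of order dividing
`n` vanishes on all groups killed by `n`. -/
theorem isZero_of_killed (hP : ∀ (Λ : Type (u + 1)) [SmallCategory Λ] [IsFiltered Λ], PreservesColimitsOfShape Λ P)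
    (n : ℕ) (hn : 0 < n) (A : AddCommGrpCat.{u + 1}) (hA : ∀ a : A, n • a = 0)
    (h : ∀ d : ℕ, d ∣ n → IsZero (P.obj (AddCommGrpCat.of (ULift.{u + 1} (ZMod d))))) : IsZero (P.obj A) := by
  classical
  let Λ := {N : AddSubgroup A // N.FG}
  haveI : IsDirected Λ (· ≤ ·) := ⟨fun a b => ⟨⟨a.1 ⊔ b.1, a.2.sup b.2⟩,
    show a.1 ≤ a.1 ⊔ b.1 from le_sup_left, show b.1 ≤ a.1 ⊔ b.1 from le_sup_right⟩⟩
  haveI : Nonempty Λ := ⟨⟨⊥, ⟨∅, by simp⟩⟩⟩
  let D : Λ ⥤ AddCommGrpCat.{u + 1} :=
    { obj := fun N => AddCommGrpCat.of N.1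
      map := fun {a b} f => AddCommGrpCat.ofHom (AddSubgroup.inclusion (show a.1 ≤ b.1 from leOfHom f)) }
  let c : Cocone D :=
    { pt := A
      ι := { app := fun N => AddCommGrpCat.ofHom N.1.subtype, naturality := fun _ _ _ => rfl } }
  have hc : IsColimit c := by
    haveI : PreservesColimitsOfShape Λ (forget AddCommGrpCat.{u + 1}) :=
      PreservesFilteredColimitsOfSize.preserves_filtered_colimits Λ
    haveI := reflectsColimitsOfShape_of_reflectsIsomorphisms (J := Λ) (G := forget AddCommGrpCat.{u + 1})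
    refine isColimitOfReflects (forget AddCommGrpCat.{u + 1}) ?_
    refine Types.FilteredColimit.isColimitOf _ _ (fun a => ?_) fun i j xi xj hij => ?_
    · exact ⟨⟨AddSubgroup.closure {a}, ⟨{a}, by simp⟩⟩, ⟨a, AddSubgroup.subset_closure rfl⟩, rfl⟩
    · exact ⟨⟨i.1 ⊔ j.1, i.2.sup j.2⟩, homOfLE (show i.1 ≤ _ from le_sup_left),
        homOfLE (show j.1 ≤ _ from le_sup_right), Subtype.ext hij⟩
  haveI := hP Λ
  rw [IsZero.iff_id_eq_zero]
  refine (isColimitOfPreserves P hc).hom_ext fun N => IsZero.eq_of_src ?_ _ _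
  haveI : AddGroup.FG N.1 := (AddGroup.fg_iff_addSubgroup_fg N.1).2 N.2
  haveI : Finite N.1 := AddCommGroup.finite_of_fg_torsion N.1 (fun a =>
    isOfFinAddOrder_iff_nsmul_eq_zero.2 ⟨n, hn, Subtype.ext (by simpa using hA (a : A))⟩)
  refine isZero_of_finite P (AddCommGrpCat.of N.1) fun m hm ⟨a, ha⟩ => h m ?_
  rw [← ha]
  exact addOrderOf_dvd_of_nsmul_eq_zero (Subtype.ext (by simpa using hA (a : A)))

end Generic

variable {X Y : Scheme.{u}} {Ω : Type u} [Field Ω] [IsSepClosed Ω] (h : Y ⟶ X) [QuasiCompact h] [QuasiSeparated h]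
  (e : Y ⟶ Spec (CommRingCat.of Ω))

/-- Vanishing of a higher direct image of all pullbacks of torsion sheaves from a separably closed point, from
the vanishing for constant cyclic coefficients. -/
theorem isZero_Rpush_pull_of_const (q n : ℕ) (hn : 0 < n)
    (hd : ∀ d : ℕ, d ∣ n → IsZero ((EtCoh.Rpush h q).obj (EtCoh.const Y (ZMod d))))
    (G : EtCoh.Ab (Spec (CommRingCat.of Ω))) (hG : EtCoh.KilledBy n G) :
    IsZero ((EtCoh.Rpush h q).obj ((EtCoh.pull e).obj G)) := by
  obtain ⟨i⟩ := nonempty_iso_cs G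
  let P := cs Y ⋙ EtCoh.Rpush h q
  haveI : (cs Y).IsLeftAdjoint :=
    (constantSheafAdj Y.smallEtaleTopology AddCommGrpCat.{u + 1} (EtCore.topIsTerminal Y)).isLeftAdjoint
  have hP : ∀ (Λ : Type (u + 1)) [SmallCategory Λ] [IsFiltered Λ], PreservesColimitsOfShape Λ P := fun Λ _ _ => by
    haveI := preservesColimitsOfShape_Rpush_large h q Λ
    haveI : PreservesColimitsOfShape Λ (cs Y) := inferInstance
    infer_instance
  have hz := isZero_of_killed P hP n hn ((EtCore.gsec _).obj G) (fun s => hG _ s) (fun d hdn => hd d hdn)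
  exact hz.of_iso ((EtCoh.Rpush h q).mapIso (((EtCoh.pull e).mapIso i).symm ≪≫ (EtCore.pullConstIso e).app _))

end Groth.Agent.BCField24
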