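import Mathlib.AlgebraicGeometry.AffineTransitionLimit
import Mathlib.AlgebraicGeometry.Morphisms.FinitePresentation
import Mathlib.CategoryTheory.Limits.Types.Filtered
import Mathlib.Algebra.Category.Ring.FilteredColimits
import Mathlib.RingTheory.FinitePresentation
import Mathlib.RingTheory.MvPolynomial.Basic

/-!
# An affine scheme as a limit of affine schemes of finite presentation
-/

set_option autoImplicit false
set_option linter.style.haveILetI false
set_option linter.unusedSectionVars false

universe u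

open CategoryTheory CategoryTheory.Limits AlgebraicGeometry Opposite MvPolynomial

namespace Groth.Agent.BCField24

variable (A O : Type u) [CommRing A] [CommRing O] [Algebra A O]

/-- Finitely many generators and relations between them. -/
abbrev Idx : Type u :=
  {p : Finset O × Finset (MvPolynomial O A) //
    ∀ r ∈ p.2, aeval (R := A) (id : O → O) r = 0 ∧ ∃ r' : MvPolynomial {x // x ∈ p.1} A, rename Subtype.val r' = r}

lemma le_iff {i j : Idx A O} : i ≤ j ↔ i.1.1 ⊆ j.1.1 ∧ i.1.2 ⊆ j.1.2 := Iff.rfl

variable {A O}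

/-- The inclusion of the generators. -/
def incl {s t : Finset O} (h : s ⊆ t) (x : {x // x ∈ s}) : {x // x ∈ t} := ⟨x.1, h x.2⟩

lemma rename_incl {s t : Finset O} (h : s ⊆ t) (r : MvPolynomial {x // x ∈ s} A) :
    rename Subtype.val (rename (incl h) r) = rename Subtype.val r := by
  rw [rename_rename]
  rfl

instance : Nonempty (Idx A O) := ⟨⟨(∅, ∅), fun r hr => absurd hr (Finset.notMem_empty r)⟩⟩

instance : IsDirected (Idx A O) (· ≤ ·) := ⟨fun a b => by
  classical
  refine ⟨⟨(a.1.1 ∪ b.1.1, a.1.2 ∪ b.1.2), fun r hr => ?_⟩, ⟨Finset.subset_union_left, Finset.subset_union_left⟩,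
    ⟨Finset.subset_union_right, Finset.subset_union_right⟩⟩
  rcases Finset.mem_union.1 hr with h | h
  · obtain ⟨h0, r', rfl⟩ := a.2 r h
    exact ⟨h0, rename (incl Finset.subset_union_left) r', rename_incl _ r'⟩
  · obtain ⟨h0, r', rfl⟩ := b.2 r h
    exact ⟨h0, rename (incl Finset.subset_union_right) r', rename_incl _ r'⟩⟩

/-- The relations at a stage. -/
noncomputable def rel (i : Idx A O) : Ideal (MvPolynomial {x // x ∈ i.1.1} A) :=
  Ideal.span {r | rename Subtype.val r ∈ i.1.2}

/-- The algebra at a stage. -/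
abbrev B (i : Idx A O) : Type u := MvPolynomial {x // x ∈ i.1.1} A ⧸ rel i

lemma fg_rel (i : Idx A O) : (rel i).FG :=
  Submodule.fg_span (i.1.2.finite_toSet.preimage (rename_injective _ Subtype.val_injective).injOn)

instance (i : Idx A O) : Algebra.FinitePresentation A (B i) :=
  Algebra.FinitePresentation.quotient (fg_rel i)

/-- The transition maps. -/
noncomputable def tr {i j : Idx A O} (h : i ≤ j) : B i →ₐ[A] B j :=
  Ideal.Quotient.liftₐ (rel i) ((Ideal.Quotient.mkₐ A (rel j)).comp (rename (incl h.1))) fun a ha => by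
    have hle : rel i ≤ RingHom.ker ((Ideal.Quotient.mkₐ A (rel j)).comp (rename (incl h.1))) := by
      refine Ideal.span_le.2 fun r hr => ?_
      refine Ideal.Quotient.eq_zero_iff_mem.2 (Ideal.subset_span ?_)
      show rename Subtype.val (rename (incl h.1) r) ∈ j.1.2
      rw [rename_incl]
      exact h.2 hr
    exact hle ha

lemma tr_mk {i j : Idx A O} (h : i ≤ j) (x : MvPolynomial {x // x ∈ i.1.1} A) :
    tr h (Ideal.Quotient.mk (rel i) x) = Ideal.Quotient.mk (rel j) (rename (incl h.1) x) := rfl

/-- The map to the algebra. -/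
noncomputable def toO (i : Idx A O) : B i →ₐ[A] O :=
  Ideal.Quotient.liftₐ (rel i) (aeval (Subtype.val : {x // x ∈ i.1.1} → O)) fun a ha => by
    have hle : rel i ≤ RingHom.ker (aeval (R := A) (Subtype.val : {x // x ∈ i.1.1} → O)) := by
      refine Ideal.span_le.2 fun r hr => ?_
      have h0 := (i.2 _ hr).1
      rwa [aeval_rename] at h0
    exact hle ha

lemma toO_mk (i : Idx A O) (x : MvPolynomial {x // x ∈ i.1.1} A) :
    toO i (Ideal.Quotient.mk (rel i) x) = aeval (Subtype.val : {x // x ∈ i.1.1} → O) x := rfl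

lemma toO_tr {i j : Idx A O} (h : i ≤ j) (x : B i) : toO j (tr h x) = toO i x := by
  obtain ⟨x, rfl⟩ := Ideal.Quotient.mk_surjective x
  rw [tr_mk, toO_mk, toO_mk, aeval_rename]
  rfl

variable (A O)

/-- The coordinate rings. -/
noncomputable def ringDiag : Idx A O ⥤ CommRingCat.{u} where
  obj i := CommRingCat.of (B i)
  map h := CommRingCat.ofHom (tr (leOfHom h)).toRingHom
  map_id i := CommRingCat.hom_ext (RingHom.ext fun x => by
    obtain ⟨x, rfl⟩ := Ideal.Quotient.mk_surjective x
    show tr (le_refl i) (Ideal.Quotient.mk (rel i) x) = Ideal.Quotient.mk (rel i) x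
    rw [tr_mk]
    exact congrArg (Ideal.Quotient.mk (rel i)) (rename_id_apply x))
  map_comp {i j k} f g := CommRingCat.hom_ext (RingHom.ext fun x => by
    obtain ⟨x, rfl⟩ := Ideal.Quotient.mk_surjective x
    show tr (i := i) (j := k) ((leOfHom f).trans (leOfHom g)) (Ideal.Quotient.mk (rel i) x) =
      tr (leOfHom g) (tr (leOfHom f) (Ideal.Quotient.mk (rel i) x))
    rw [tr_mk, tr_mk, tr_mk, rename_rename]
    rfl)

/-- An affine scheme over an affine scheme is a limit of affine schemes of finite presentation. -/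
theorem exists_fp_system : ∃ (W : (Idx A O)ᵒᵖ ⥤ Scheme.{u})
    (π : (Functor.const (Idx A O)ᵒᵖ).obj (Spec (CommRingCat.of O)) ⟶ W) (_ : IsLimit (Cone.mk _ π))
    (w : ∀ i, W.obj (op i) ⟶ Spec (CommRingCat.of A)),
    (∀ i, IsAffine (W.obj (op i))) ∧
    (∀ ⦃a b : (Idx A O)ᵒᵖ⦄ (h : a ⟶ b), IsAffineHom (W.map h)) ∧
    (∀ ⦃i j : Idx A O⦄ (h : i ≤ j), W.map (homOfLE h).op ≫ w i = w j) ∧
    (∀ i, LocallyOfFinitePresentation (w i)) ∧
    (∀ i, π.app (op i) ≫ w i = Spec.map (CommRingCat.ofHom (algebraMap A O))) := by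
  let cc : Cocone (ringDiag A O) :=
    { pt := CommRingCat.of O
      ι :=
        { app := fun i => CommRingCat.ofHom (toO i).toRingHom
          naturality := fun i j h => CommRingCat.hom_ext (RingHom.ext fun x => toO_tr (leOfHom h) x) } }
  haveI : ReflectsColimit (ringDiag A O) (forget CommRingCat.{u}) :=
    reflectsColimit_of_reflectsIsomorphisms _ _
  have hcc : IsColimit cc := isColimitOfReflects (forget CommRingCat)
    (Types.FilteredColimit.isColimitOf' _ _ (fun x => by
      classical
      refine ⟨⟨({x}, ∅), fun r hr => absurd hr (Finset.notMem_empty r)⟩,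
        Ideal.Quotient.mk _ (MvPolynomial.X ⟨x, Finset.mem_singleton_self x⟩), ?_⟩
      exact (aeval_X (R := A) (Subtype.val : {z // z ∈ ({x} : Finset O)} → O) ⟨x, Finset.mem_singleton_self x⟩).symm) fun i x y hxy => by
      classical
      obtain ⟨x, rfl⟩ := Ideal.Quotient.mk_surjective x
      obtain ⟨y, rfl⟩ := Ideal.Quotient.mk_surjective y
      have h0 : aeval (R := A) (id : O → O) (rename Subtype.val (x - y)) = 0 := by
        rw [aeval_rename, Function.id_comp, map_sub, sub_eq_zero]
        exact hxy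
      let k : Idx A O := ⟨(i.1.1, insert (rename Subtype.val (x - y)) i.1.2), fun r hr => by
        rcases Finset.mem_insert.1 hr with rfl | h
        · exact ⟨h0, x - y, rfl⟩
        · exact i.2 r h⟩
      refine ⟨k, homOfLE (show i ≤ k from ⟨subset_rfl, Finset.subset_insert _ _⟩), ?_⟩
      show tr (show i ≤ k from ⟨subset_rfl, Finset.subset_insert _ _⟩) (Ideal.Quotient.mk (rel i) x) =
        tr (show i ≤ k from ⟨subset_rfl, Finset.subset_insert _ _⟩) (Ideal.Quotient.mk (rel i) y)
      rw [tr_mk, tr_mk, Ideal.Quotient.eq, ← map_sub]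
      refine Ideal.subset_span ?_
      show rename Subtype.val _ ∈ k.1.2
      rw [rename_incl]
      exact Finset.mem_insert_self _ _)
  let c := Scheme.Spec.mapCone cc.op
  have hc : IsLimit c := isLimitOfPreserves Scheme.Spec hcc.op
  refine ⟨(ringDiag A O).op ⋙ Scheme.Spec, c.π, hc,
    fun i => Spec.map (CommRingCat.ofHom (algebraMap A (B i))), fun i => ?_, fun a b h => ?_,
    fun i j h => ?_, fun i => ?_, fun i => ?_⟩
  · show IsAffine (Spec (CommRingCat.of (B i)))
    infer_instance
  · show IsAffineHom (Spec.map _)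
    infer_instance
  · show Spec.map (CommRingCat.ofHom (tr (i := i) (j := j) h).toRingHom) ≫
      Spec.map (CommRingCat.ofHom (algebraMap A (B i))) = Spec.map (CommRingCat.ofHom (algebraMap A (B j)))
    rw [← Spec.map_comp]
    exact congrArg Spec.map (CommRingCat.hom_ext (tr h).comp_algebraMap)
  · exact HasRingHomProperty.Spec_iff.2 (RingHom.finitePresentation_algebraMap.2 inferInstance)
  · show Spec.map (CommRingCat.ofHom (toO i).toRingHom) ≫ Spec.map (CommRingCat.ofHom (algebraMap A (B i))) =
      Spec.map (CommRingCat.ofHom (algebraMap A O))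
    rw [← Spec.map_comp]
    exact congrArg Spec.map (CommRingCat.hom_ext (toO i).comp_algebraMap)

end Groth.Agent.BCField24
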