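import Mathlib.RingTheory.Localization.Integral
import Mathlib.RingTheory.Algebraic.Integral
import Mathlib.RingTheory.IntegralClosure.IntegrallyClosed
import Mathlib.FieldTheory.IsAlgClosed.Basic
import Mathlib.AlgebraicGeometry.FunctionField
import Mathlib.AlgebraicGeometry.AffineScheme
import Mathlib.AlgebraicGeometry.Morphisms.ClosedImmersion

/-!
# The spectrum of an integral closure inside an algebraically closed field
-/

set_option autoImplicit false
set_option linter.style.haveILetI false
set_option backward.isDefEq.respectTransparency.types false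

universe u

open CategoryTheory AlgebraicGeometry

namespace Groth.Agent.BCField24

variable (A : Type u) [CommRing A] (Ω : Type u) [Field Ω] [Algebra A Ω]

theorem isIntegrallyClosed_integralClosure : IsIntegrallyClosed (integralClosure A Ω) := by
  let K := FractionRing (integralClosure A Ω)
  have hinj : Function.Injective (algebraMap (integralClosure A Ω) Ω) := Subtype.val_injective
  let φ : K →ₐ[integralClosure A Ω] Ω :=
    { IsFractionRing.lift hinj with commutes' := fun b => IsFractionRing.lift_algebraMap hinj b }
  refine (isIntegrallyClosed_iff K).2 fun {x} hx => ?_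
  obtain ⟨b, hb⟩ := IsIntegrallyClosedIn.algebraMap_eq_of_integral (hx.map φ)
  exact ⟨b, φ.toRingHom.injective ((φ.commutes b).trans hb)⟩

theorem isAlgClosed_fractionRing [IsAlgClosed Ω] (K : Type u) [Field K] [Algebra (integralClosure A Ω) K]
    [IsFractionRing (integralClosure A Ω) K] : IsAlgClosed K := by
  have hinj : Function.Injective (algebraMap (integralClosure A Ω) Ω) := Subtype.val_injective
  letI : Algebra K Ω := (IsFractionRing.lift hinj : K →+* Ω).toAlgebra
  haveI : IsScalarTower (integralClosure A Ω) K Ω :=
    IsScalarTower.of_algebraMap_eq fun b => (IsFractionRing.lift_algebraMap hinj b).symm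
  refine IsAlgClosed.of_exists_root K fun p hm hp => ?_
  obtain ⟨x, hx⟩ := IsAlgClosed.exists_aeval_eq_zero Ω p (Polynomial.degree_pos_of_irreducible hp).ne'
  have halg : IsAlgebraic (integralClosure A Ω) x :=
    (IsFractionRing.isAlgebraic_iff (integralClosure A Ω) K Ω).2 ⟨p, hp.ne_zero, hx⟩
  obtain ⟨y, hy, hint⟩ := halg.exists_integral_multiple
  obtain ⟨b, hb⟩ := IsIntegrallyClosedIn.algebraMap_eq_of_integral hint
  have hy' : algebraMap (integralClosure A Ω) K y ≠ 0 := fun h =>
    hy (IsFractionRing.injective (integralClosure A Ω) K (h.trans (map_zero _).symm))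
  refine ⟨algebraMap _ K b / algebraMap _ K y, (algebraMap K Ω).injective ?_⟩
  rw [map_zero, ← Polynomial.eval₂_at_apply, map_div₀, ← IsScalarTower.algebraMap_apply,
    ← IsScalarTower.algebraMap_apply, hb, Algebra.smul_def, mul_div_cancel_left₀ x (fun h => hy (hinj (h.trans (map_zero _).symm)))]
  exact hx

theorem isAlgClosed_functionField_of (R : CommRingCat.{u}) [IsDomain R] [IsAlgClosed (FractionRing R)] :
    IsAlgClosed (Spec R).functionField :=
  IsAlgClosed.of_ringEquiv (FractionRing R) _ (IsLocalization.algEquiv (nonZeroDivisors R) (FractionRing R) _).toRingEquiv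

theorem isAlgClosed_functionField [IsAlgClosed Ω] :
    IsAlgClosed (Spec (CommRingCat.of (integralClosure A Ω))).functionField :=
  haveI : IsDomain (CommRingCat.of (integralClosure A Ω)) := inferInstanceAs (IsDomain (integralClosure A Ω))
  haveI : IsAlgClosed (FractionRing (CommRingCat.of (integralClosure A Ω))) := isAlgClosed_fractionRing A Ω _
  isAlgClosed_functionField_of (CommRingCat.of (integralClosure A Ω))

theorem isIntegrallyClosed_stalk_spec (R : Type u) [CommRing R] [IsDomain R] [IsIntegrallyClosed R]
    (q : Spec (CommRingCat.of R)) : IsIntegrallyClosed ((Spec (CommRingCat.of R)).presheaf.stalk q) := by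
  let p : PrimeSpectrum R := q
  haveI : p.asIdeal.IsPrime := p.isPrime
  haveI : IsIntegrallyClosed (Localization.AtPrime p.asIdeal) :=
    isIntegrallyClosed_of_isLocalization _ p.asIdeal.primeCompl p.asIdeal.primeCompl_le_nonZeroDivisors
  exact IsIntegrallyClosed.of_equiv (StructureSheaf.stalkIso R p).toRingEquiv

theorem isDominant_of_injective {R K : Type u} [CommRing R] [CommRing K] (φ : R →+* K)
    (h : Function.Injective φ) : IsDominant (Spec.map (CommRingCat.ofHom φ)) :=
  ⟨PrimeSpectrum.denseRange_comap_iff_ker_le_nilRadical _ |>.2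
    (by show RingHom.ker φ ≤ nilradical R; rw [(RingHom.injective_iff_ker_eq_bot φ).1 h]; exact bot_le)⟩

end Groth.Agent.BCField24
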