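import Groth.Agent.Lib.BCField24.FPSys
import Groth.Agent.Lib.Embed24.PushColim
import Groth.Agent.Lib.Embed24.GenPoint
import Groth.Agent.Lib.Constr24.Atoms
import Groth.Agent.Lib.Constr24.SuppColim

/-!
# Vanishing of a left exact functor of sheaves from its vanishing at geometric points
-/

set_option autoImplicit false
set_option linter.style.haveILetI false
set_option linter.unusedSectionVars false
set_option backward.isDefEq.respectTransparency.types false

universe u

open CategoryTheory CategoryTheory.Limits AlgebraicGeometry Opposite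

namespace Groth.Agent.BCField24

open Groth.Agent.EtStalk Groth.Agent.EtLim24

variable {T : Scheme.{u}} [CompactSpace T] [QuasiSeparatedSpace T]

/-- Restrictions to the members of a finite covering family are jointly injective. -/
theorem mono_lift_units {κ : Type u} [Finite κ] (W : κ → Scheme.{u}) (w : ∀ k, W k ⟶ T) (F : EtCoh.Ab T)
    (hcov : ∀ t : T, ∃ k, t ∈ Set.range (w k)) :
    Mono (biproduct.lift fun k => (EtCoh.pullPushAdj (w k)).unit.app F) := by
  let l := biproduct.lift fun k => (EtCoh.pullPushAdj (w k)).unit.app F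
  refine Preadditive.mono_of_isZero_kernel l ?_
  rw [isZero_iff_stalk]
  intro Ω _ _ ξ
  obtain ⟨k, y, hy⟩ := hcov (ξ default)
  have h0 : kernel.ι l ≫ (EtCoh.pullPushAdj (w k)).unit.app F = 0 := by
    have h := congrArg (fun q => q ≫ biproduct.π (fun k => (EtCoh.push (w k)).obj ((EtCoh.pull (w k)).obj F)) k)
      (kernel.condition l)
    rw [Category.assoc, zero_comp] at h
    exact (congrArg (kernel.ι l ≫ ·) (biproduct.lift_π _ _).symm).trans h
  have h1 : (EtCoh.pull (w k)).map (kernel.ι l) = 0 := by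
    refine ((EtCoh.pullPushAdj (w k)).homEquiv _ _).injective ?_
    rw [Adjunction.homEquiv_unit, Adjunction.homEquiv_unit]
    haveI : (EtCoh.push (w k)).Additive := (EtCoh.pullPushAdj (w k)).right_adjoint_additive
    rw [Functor.map_zero, comp_zero]
    exact ((EtCoh.pullPushAdj (w k)).unit.naturality (kernel.ι l)).symm.trans h0
  haveI : Mono ((EtCoh.pull (w k)).map (kernel.ι l)) := mono_pull_map (w k) (kernel.ι l)
  have h2 : IsZero ((EtCoh.pull (w k)).obj (kernel l)) :=
    IsZero.of_mono_eq_zero _ h1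
  let K := SeparableClosure ((W k).residueField y)
  let η := Embed24.pt (W k) y K
  haveI : Subsingleton ((EtCoh.stalk η).obj ((EtCoh.pull (w k)).obj (kernel l))) :=
    AddCommGrpCat.subsingleton_of_isZero ((isZero_iff_stalk _).1 h2 _ η)
  refine Constr24.isZero_stalk_congr ξ (η ≫ w k) ?_
    (Equiv.ofBijective _ (ConcreteCategory.bijective_of_isIso (stalkPull (w k) η (kernel l)))).subsingleton
  rw [Scheme.Hom.comp_apply, Embed24.pt_apply, hy]

/-- An element dies at a stage if the colimit vanishes. -/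
theorem exists_map_eq_zero {J : Type u} [SmallCategory J] [IsFiltered J] (D : J ⥤ EtCoh.Ab T) (c : Cocone D)
    (hc : IsColimit c) (P : EtCoh.Ab T ⥤ AddCommGrpCat.{u + 1}) [PreservesColimitsOfShape J P]
    (hz : IsZero (P.obj c.pt)) (i : J) {A : EtCoh.Ab T} (v : A ⟶ D.obj i) (x : P.obj A) :
    ∃ (k : J) (f : i ⟶ k), P.map (v ≫ D.map f) x = 0 := by
  let y := P.map v x
  have h0 : (P.mapCocone c).ι.app i y = (P.mapCocone c).ι.app i 0 :=
    @Subsingleton.elim _ (AddCommGrpCat.subsingleton_of_isZero hz) _ _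
  obtain ⟨k, f₁, f₂, hk⟩ := Concrete.isColimit_exists_of_rep_eq _ (isColimitOfPreserves P hc) y 0 h0
  rw [map_zero] at hk
  exact ⟨k, f₁, (Functor.map_comp_apply P v (D.map f₁) x).trans hk⟩

/-- Near a point, an element killed by the geometric point is killed by an affine scheme of finite presentation. -/
theorem exists_fp_kill (P : EtCoh.Ab T ⥤ AddCommGrpCat.{u + 1})
    (hP : ∀ (J : Type u) [SmallCategory J] [IsFiltered J], PreservesColimitsOfShape J P) (F : EtCoh.Ab T)
    (hpt : ∀ (Ω : Type u) [Field Ω] [IsAlgClosed Ω] (t : Spec (CommRingCat.of Ω) ⟶ T),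
      IsZero (P.obj ((EtCoh.push t).obj ((EtCoh.pull t).obj F)))) (x : P.obj F) (t : T) :
    ∃ (W : Scheme.{u}) (w : W ⟶ T), QuasiCompact w ∧ LocallyOfFinitePresentation w ∧ t ∈ Set.range w ∧
      P.map ((EtCoh.pullPushAdj w).unit.app F) x = 0 := by
  obtain ⟨U, hU, ht, -⟩ := exists_isAffineOpen_mem_and_subset (X := T) (x := t) (U := ⊤) trivial
  let Ω := AlgebraicClosure (T.residueField t)
  let tb := Embed24.pt T t Ω
  letI : Algebra Γ(T, U) Ω := (Embed24.val T t Ω ht).hom.toAlgebra
  obtain ⟨W, π, hc, w, hWaff, hWmap, hw, hfp, hπ⟩ := exists_fp_system Γ(T, U) Ω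
  let b : ∀ i, W.obj (op i) ⟶ T := fun i => w i ≫ hU.fromSpec
  have hb : ∀ ⦃i j : Idx Γ(T, U) Ω⦄ (h : i ≤ j), uM W h ≫ b i = b j := fun i j h =>
    (Category.assoc _ _ _).symm.trans (congrArg (· ≫ hU.fromSpec) (hw h))
  let c : Cone W := Cone.mk _ π
  have hb' : ∀ i, pr W c i ≫ b i = tb := fun i => by
    refine (Category.assoc _ _ _).symm.trans ((congrArg (· ≫ hU.fromSpec) (hπ i)).trans ?_)
    have e : CommRingCat.ofHom (algebraMap Γ(T, U) Ω) =
        T.presheaf.germ U t ht ≫ T.residue t ≫ CommRingCat.ofHom (algebraMap (T.residueField t) Ω) := rfl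
    rw [e, Spec.map_comp, Spec.map_comp, Category.assoc, Category.assoc]
    refine congrArg (Spec.map (CommRingCat.ofHom (algebraMap (T.residueField t) Ω)) ≫ ·) ?_
    exact congrArg (Spec.map (T.residue t) ≫ ·) (hU.fromSpecStalk_eq_fromSpecStalk ht)
  haveI : ∀ i, IsAffine (W.obj (op i)) := hWaff
  haveI : ∀ i, CompactSpace ↥(W.obj (op i)) := fun i => inferInstance
  haveI : ∀ i, QuasiSeparatedSpace ↥(W.obj (op i)) := fun i => inferInstance
  obtain ⟨hcol⟩ := Embed24.nonempty_isColimit_stgCocone b hb tb hb' F (fun _ _ h => hWmap h) hc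
  haveI := hP (Idx Γ(T, U) Ω)
  let i₀ : Idx Γ(T, U) Ω := Classical.arbitrary _
  have hz : IsZero (P.obj (Embed24.stgCocone (c := c) b hb tb hb' F).pt) := hpt Ω tb
  obtain ⟨k, f₁, hk⟩ := exists_map_eq_zero (Embed24.stgDiag b hb F) (Embed24.stgCocone (c := c) b hb tb hb' F) hcol P hz i₀
    ((EtCoh.pullPushAdj (b i₀)).unit.app F) x
  refine ⟨W.obj (op k), b k, inferInstance, ?_, ⟨(pr W c k) (default : Spec (CommRingCat.of Ω)), ?_⟩, ?_⟩
  · haveI := hfp k
    show LocallyOfFinitePresentation (w k ≫ hU.fromSpec)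
    infer_instance
  · rw [← Scheme.Hom.comp_apply, hb', Embed24.pt_apply]
  · have e : (EtCoh.pullPushAdj (b i₀)).unit.app F ≫ (Embed24.stgDiag b hb F).map f₁ =
        (EtCoh.pullPushAdj (b k)).unit.app F := by
      have h := rho_bt b hb F (leOfHom f₁)
      have r : ∀ j, rho b F j = (EtCoh.pullPushAdj (b j)).unit.app F := fun j => Adjunction.homEquiv_id _ _
      rw [r, r] at h
      exact h
    exact (congrArg (fun q => P.map q x) e).symm.trans hk

/-- A functor commuting with filtered colimits, left exact on monomorphisms of sheaves of a class, which vanishes at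
geometric points, vanishes on the class. -/
theorem isZero_of_points (P : EtCoh.Ab T ⥤ AddCommGrpCat.{u + 1}) [P.Additive]
    (hP : ∀ (J : Type u) [SmallCategory J] [IsFiltered J], PreservesColimitsOfShape J P) (F : EtCoh.Ab T)
    (hmono : ∀ (κ : Type u) (_ : Finite κ) (W : κ → Scheme.{u}) (w : ∀ k, W k ⟶ T)
      (ι : F ⟶ ⨁ fun k => (EtCoh.push (w k)).obj ((EtCoh.pull (w k)).obj F)), Mono ι → Function.Injective (P.map ι))
    (hpt : ∀ (Ω : Type u) [Field Ω] [IsAlgClosed Ω] (t : Spec (CommRingCat.of Ω) ⟶ T),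
      IsZero (P.obj ((EtCoh.push t).obj ((EtCoh.pull t).obj F)))) : IsZero (P.obj F) := by
  classical
  refine @AddCommGrpCat.isZero_of_subsingleton _ (subsingleton_of_forall_eq 0 fun x => ?_)
  choose W w hq hfp hmem hzero using exists_fp_kill P hP F hpt x
  obtain ⟨s, hs⟩ := Constr24.exists_finite_subcover (fun t => Set.range (w t))
    (fun t => by
      haveI := hq t
      haveI := hfp t
      rw [← Set.image_univ]
      exact (w t).isConstructible_image Topology.IsConstructible.univ)
    (Set.eq_univ_of_forall fun t => Set.mem_iUnion.2 ⟨t, hmem t⟩)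
  haveI hm := mono_lift_units (fun k : s => W k.1) (fun k => w k.1) F fun t => by
    obtain ⟨k, hk, h⟩ := Set.mem_iUnion₂.1 (hs.ge (Set.mem_univ t))
    exact ⟨⟨k, hk⟩, h⟩
  refine hmono _ inferInstance _ _ _ hm ?_
  rw [map_zero]
  let N : s → EtCoh.Ab T := fun k => (EtCoh.push (w k.1)).obj ((EtCoh.pull (w k.1)).obj F)
  let l : F ⟶ ⨁ N := biproduct.lift fun k => (EtCoh.pullPushAdj (w k.1)).unit.app F
  haveI : Fintype s := Fintype.ofFinite _
  have hz : ∀ k, P.map (biproduct.π N k) (P.map l x) = 0 := fun k => by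
    rw [← Functor.map_comp_apply]
    exact (congrArg (fun q => P.map q x) (biproduct.lift_π _ _)).trans (hzero k.1)
  let A : (⨁ N ⟶ ⨁ N) →+ (P.obj (⨁ N) →+ P.obj (⨁ N)) :=
    { toFun := fun q => (P.map q).hom
      map_zero' := by rw [P.map_zero]; rfl
      map_add' := fun q q' => by rw [P.map_add]; rfl }
  have h1 : P.map l x = A (𝟙 _) (P.map l x) := by
    show _ = P.map (𝟙 _) (P.map l x)
    rw [P.map_id]
    rfl
  show P.map l x = 0
  have ht : 𝟙 (⨁ N) = ∑ k : s, biproduct.π N k ≫ biproduct.ι N k := (IsBilimit.total (biproduct.isBilimit N)).symm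
  rw [h1, ht, map_sum, AddMonoidHom.finset_sum_apply]
  refine Finset.sum_eq_zero fun k _ => ?_
  show P.map (biproduct.π N k ≫ biproduct.ι N k) (P.map l x) = 0
  rw [Functor.map_comp_apply, hz k, map_zero]

end Groth.Agent.BCField24
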