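import Groth.Agent.Lib.BCField24.Point
import Groth.Agent.Lib.BCField24.Reduce
import Groth.Agent.Lib.BCField24.RpushColim
import Groth.Agent.Lib.EtBCQ24.FirstDegree

/-!
# The first degree in which base change fails is detected over algebraically closed fields
-/

set_option autoImplicit false
set_option linter.style.haveILetI false
set_option linter.unusedSectionVars false
set_option backward.isDefEq.respectTransparency false
set_option backward.isDefEq.respectTransparency.types false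

universe u

open CategoryTheory CategoryTheory.Limits AlgebraicGeometry Opposite

namespace Groth.Agent.BCField24

open Groth.Agent.EtStalk

/-- Base change holds in degree `a` for `n`-torsion sheaves, after any base change. -/
def BCAt {X S : Scheme.{u}} (f : X ⟶ S) (n a : ℕ) : Prop :=
  ∀ ⦃S₁ X₁ T₁ Y₁ : Scheme.{u}⦄ (p₁ : S₁ ⟶ S) (f₁ : X₁ ⟶ S₁) (r₁ : X₁ ⟶ X), IsPullback r₁ f₁ f p₁ →
    ∀ (g₁ : T₁ ⟶ S₁) (h₁ : Y₁ ⟶ X₁) (e₁ : Y₁ ⟶ T₁) (c₁ : IsPullback e₁ h₁ g₁ f₁)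
      [QuasiCompact g₁] [QuasiSeparated g₁] [PreservesFiniteLimits (EtCoh.pull e₁)]
      (G₁ : EtCoh.Ab T₁), EtCoh.KilledBy n G₁ → IsIso (EtBC.bcQ g₁ f₁ h₁ e₁ c₁.w a G₁)

/-- Higher direct images from algebraically closed points vanish in degree `q`. -/
def PtVanish {X S : Scheme.{u}} (f : X ⟶ S) (n q : ℕ) : Prop :=
  ∀ ⦃S₁ X₁ Y₁ : Scheme.{u}⦄ (p₁ : S₁ ⟶ S) (f₁ : X₁ ⟶ S₁) (r₁ : X₁ ⟶ X), IsPullback r₁ f₁ f p₁ →
    ∀ (Ω : Type u) [Field Ω] [IsAlgClosed Ω] (g₁ : Spec (CommRingCat.of Ω) ⟶ S₁) (h₁ : Y₁ ⟶ X₁)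
      (e₁ : Y₁ ⟶ Spec (CommRingCat.of Ω)), IsPullback e₁ h₁ g₁ f₁ → QuasiCompact g₁ → QuasiSeparated g₁ →
      ∀ G : EtCoh.Ab (Spec (CommRingCat.of Ω)), EtCoh.KilledBy n G →
        IsZero ((EtCoh.Rpush h₁ q).obj ((EtCoh.pull e₁).obj G))

lemma killedBy_pull {A B : Scheme.{u}} (w : A ⟶ B) {n : ℕ} {F : EtCoh.Ab B} (hF : EtCoh.KilledBy n F) :
    EtCoh.KilledBy n ((EtCoh.pull w).obj F) :=
  EtBCQ24.killedBy_of_nsmul (EtAcyc24.nsmul_id_pull w (EtBCQ24.nsmul_id_of_killedBy hF))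

lemma killedBy_sum {B : Scheme.{u}} {κ : Type u} [Finite κ] (W : κ → Scheme.{u}) (w : ∀ k, W k ⟶ B) {n : ℕ}
    {F : EtCoh.Ab B} (hF : EtCoh.KilledBy n F) :
    EtCoh.KilledBy n (⨁ fun k => (EtCoh.push (w k)).obj ((EtCoh.pull (w k)).obj F)) := by
  refine EtBCQ24.killedBy_of_nsmul ?_
  refine biproduct.hom_ext _ _ fun k => ?_
  rw [Preadditive.nsmul_comp, Category.id_comp, zero_comp, ← Category.comp_id (biproduct.π _ k),
    ← Preadditive.comp_nsmul]
  haveI : (EtCoh.push (w k)).Additive := (EtCoh.pullPushAdj (w k)).right_adjoint_additive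
  rw [← CategoryTheory.Functor.map_id, ← Functor.map_nsmul,
    EtAcyc24.nsmul_id_pull (w k) (EtBCQ24.nsmul_id_of_killedBy hF), Functor.map_zero, comp_zero]

variable {X S : Scheme.{u}} (f : X ⟶ S) (n p : ℕ) (H : ∀ a ≤ p, BCAt f n a) (hpt : PtVanish f n (p + 1))

include H hpt in
/-- The step for a quasi-compact quasi-separated scheme over the base. -/
theorem isIso_bcQ_qcqs {S₁ X₁ T Y : Scheme.{u}} (p₁ : S₁ ⟶ S) (f₁ : X₁ ⟶ S₁) (r₁ : X₁ ⟶ X)
    (hX : IsPullback r₁ f₁ f p₁) (g : T ⟶ S₁) (h : Y ⟶ X₁) (e : Y ⟶ T) (c : IsPullback e h g f₁)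
    [QuasiCompact g] [QuasiSeparated g] [CompactSpace T] [QuasiSeparatedSpace T]
    [PreservesFiniteLimits (EtCoh.pull e)] (F : EtCoh.Ab T) (hF : EtCoh.KilledBy n F) :
    IsIso (EtBC.bcQ g f₁ h e c.w (p + 1) F) := by
  have H' : ∀ G : EtCoh.Ab T, EtCoh.KilledBy n G → IsIso (EtBC.bcQ g f₁ h e c.w p G) :=
    fun G hG => H p le_rfl p₁ f₁ r₁ hX g h e c G hG
  haveI := EtBCQ24.mono_bcQ_succ f₁ g h e c.w n p H' F hF
  suffices hz : IsZero ((coker f₁ g h e c.w (p + 1)).obj F) by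
    haveI : Epi (EtBC.bcQ g f₁ h e c.w (p + 1) F) :=
      Preadditive.epi_of_isZero_cokernel (EtBC.bcQ g f₁ h e c.w (p + 1) F) hz
    exact isIso_of_mono_of_epi _
  haveI : QuasiCompact h := MorphismProperty.of_isPullback c inferInstance
  haveI : QuasiSeparated h := MorphismProperty.of_isPullback c inferInstance
  rw [isZero_iff_stalk]
  intro Ω _ _ ξ
  haveI : PreservesBinaryBiproducts (EtCoh.stalk ξ) := preservesBinaryBiproducts_of_preservesBinaryProducts _
  haveI : (EtCoh.stalk ξ).Additive := Functor.additive_of_preservesBinaryBiproducts _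
  refine isZero_of_points (coker f₁ g h e c.w (p + 1) ⋙ EtCoh.stalk ξ) (fun J _ _ => ?_) F
    (fun κ _ W w ι hι => ?_) (fun K _ _ t => ?_)
  · haveI := preservesColimitsOfShape_Rpush g (p + 1) J
    haveI := preservesColimitsOfShape_Rpush h (p + 1) J
    haveI : PreservesColimitsOfSize.{u, u} (EtCoh.pull e) := (EtCoh.pullPushAdj e).leftAdjoint_preservesColimits
    haveI : PreservesColimitsOfSize.{u, u} (EtCoh.pull f₁) := (EtCoh.pullPushAdj f₁).leftAdjoint_preservesColimits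
    haveI := preservesColimitsOfShape_coker f₁ g h e c.w (p + 1) J
    infer_instance
  · obtain ⟨φ, hφ, hπ⟩ := EtBCQ24.exists_mono_coker f₁ g h e c.w n p H' F _ ι (killedBy_sum W w hF)
    have e₀ : φ = (coker f₁ g h e c.w (p + 1)).map ι :=
      (cancel_epi (cokernel.π (EtBC.bcQ g f₁ h e c.w (p + 1) F))).1 (hπ.trans (π_coker_map f₁ g h e c.w (p + 1) ι).symm)
    have hm : Mono ((coker f₁ g h e c.w (p + 1)).map ι) := e₀ ▸ hφ
    exact (mono_iff_stalk _).1 hm Ω ξ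
  · have sq : IsPullback (pullback.snd e t) (pullback.fst e t) t e := (IsPullback.of_hasPullback e t).flip
    have sqX : IsPullback (h ≫ r₁) e f (g ≫ p₁) := c.flip.paste_horiz hX
    have hlow : ∀ a, a < p + 1 →
        IsIso (EtBC.bcQ t e (pullback.fst e t) (pullback.snd e t) sq.w a ((EtCoh.pull t).obj F)) :=
      fun a ha => H a (Nat.lt_succ_iff.1 ha) (g ≫ p₁) e (h ≫ r₁) sqX t _ _ sq _ (killedBy_pull t hF)
    refine (EtCoh.stalk ξ).map_isZero (isZero_coker_point f₁ g h e c.w t (pullback.fst e t) (pullback.snd e t) sq.w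
      ((EtCoh.pull t).obj F) (p + 1) p.succ_pos hlow ?_)
    exact hpt p₁ f₁ r₁ hX K (t ≫ g) (pullback.fst e t ≫ h) (pullback.snd e t) (sq.paste_vert c) inferInstance
      inferInstance _ (killedBy_pull t hF)

include H hpt in
/-- The step in general. -/
theorem bcAt_succ : BCAt f n (p + 1) := by
  intro S₁ X₁ T Y p₁ f₁ r₁ hX g h e c _ _ _ F hF
  let ι := S₁.affineOpens
  let V : ι → S₁.Etale := fun i => Scheme.Etale.mk i.1.ι
  let U : ι → X₁.Etale := fun i => (EtCoh.bc f₁).obj (V i)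
  have hU : EtCoh.Covers U := fun x => by
    obtain ⟨O, hO, hx, -⟩ := exists_isAffineOpen_mem_and_subset (X := S₁) (x := f₁ x) (U := ⊤) trivial
    obtain ⟨y, hy⟩ : ∃ y, (U ⟨O, hO⟩).hom y = x := by
      show ∃ y, pullback.snd O.ι f₁ y = x
      obtain ⟨y, -, hy⟩ := Scheme.Pullback.exists_preimage_pullback (f := O.ι) (g := f₁) ⟨f₁ x, hx⟩ x rfl
      exact ⟨y, hy⟩
    exact ⟨⟨O, hO⟩, y, hy⟩
  refine EtBCQ24.isIso_bcQ_of_local f₁ g h e c F (p + 1) U hU V (fun i => pullback.fst i.1.ι f₁)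
    (fun i => pullback.condition) (fun i => pullback g i.1.ι) (fun i => pullback (pullback.snd g i.1.ι) (pullback.fst i.1.ι f₁))
    (fun i => pullback.snd g i.1.ι) (fun i => pullback.fst g i.1.ι) (fun i => IsPullback.of_hasPullback g i.1.ι)
    (fun i => pullback.snd _ _) (fun i => pullback.fst _ _) (fun i => IsPullback.of_hasPullback _ _) fun i => ?_
  haveI : IsAffine (i.1 : Scheme.{u}) := i.2
  haveI hqc : QuasiCompact (pullback.snd g i.1.ι) := MorphismProperty.pullback_snd _ _ inferInstance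
  haveI hqs : QuasiSeparated (pullback.snd g i.1.ι) := MorphismProperty.pullback_snd _ _ inferInstance
  haveI : CompactSpace ↥(pullback g i.1.ι) := QuasiCompact.compactSpace_of_compactSpace (pullback.snd g i.1.ι)
  haveI : QuasiSeparatedSpace ↥(pullback g i.1.ι) := quasiSeparatedSpace_of_quasiSeparated (pullback.snd g i.1.ι)
  exact isIso_bcQ_qcqs f n p H hpt (i.1.ι ≫ p₁) (pullback.fst i.1.ι f₁) (pullback.snd i.1.ι f₁ ≫ r₁)
    ((IsPullback.of_hasPullback i.1.ι f₁).flip.paste_horiz hX) _ _ _ (IsPullback.of_hasPullback _ _) _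
    (killedBy_pull (pullback.fst g i.1.ι) hF)

end Groth.Agent.BCField24
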