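import Groth.Agent.Lib.EtBCQ24.Chain
import Groth.Agent.Lib.EtBCQ24.Ses
import Groth.Agent.Lib.EtBCQ24.Local

/-!
# Naturality of the base change maps and their cokernels
-/

set_option autoImplicit false
set_option linter.style.haveILetI false
set_option linter.unusedSectionVars false
set_option backward.isDefEq.respectTransparency false
set_option backward.isDefEq.respectTransparency.types false

universe u

open CategoryTheory CategoryTheory.Limits AlgebraicGeometry Opposite HomologicalComplex

namespace Groth.Agent.BCField24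

open Groth.Agent.EtBCQ24

variable {X S Y T : Scheme.{u}} (f : X ⟶ S) (g : T ⟶ S) (h : Y ⟶ X) (e : Y ⟶ T) (w : e ≫ g = h ≫ f)
  [PreservesFiniteLimits (EtCoh.pull e)]

local notation "cx" F => Functor.mapHomologicalComplex F (ComplexShape.up ℕ)

/-- The map computing base change is natural up to homotopy. -/
theorem homologyMap_ψ_natural {I I' : CochainComplex (EtCoh.Ab T) ℕ} {J J' : CochainComplex (EtCoh.Ab Y) ℕ}
    (χ : (cx (EtCoh.pull e)).obj I ⟶ J) (χ' : (cx (EtCoh.pull e)).obj I' ⟶ J') (α : I ⟶ I') (β : J ⟶ J')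
    (hom : Homotopy ((cx (EtCoh.pull e)).map α ≫ χ') (χ ≫ β)) (q : ℕ) :
    homologyMap ((cx (EtCoh.pull f)).map ((cx (EtCoh.push g)).map α)) q ≫ homologyMap (ψ g f h e w I' J' χ') q =
      homologyMap (ψ g f h e w I J χ) q ≫ homologyMap ((cx (EtCoh.push h)).map β) q := by
  have e1 : (cx (EtCoh.pull f)).map ((cx (EtCoh.push g)).map α) ≫ ψ g f h e w I' J' χ' =
      ψ g f h e w I J' ((cx (EtCoh.pull e)).map α ≫ χ') := by
    refine (ψ_natural g f h e w ((cx (EtCoh.pull e)).map α ≫ χ') χ' α (𝟙 J') (Category.comp_id _).symm).trans ?_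
    rw [CategoryTheory.Functor.map_id]
    exact Category.comp_id _
  have e2 : ψ g f h e w I J χ ≫ (cx (EtCoh.push h)).map β = ψ g f h e w I J' (χ ≫ β) := by
    rw [ψ, ψ, Category.assoc]
    exact congrArg (_ ≫ ·) ((cx (EtCoh.push h)).map_comp χ β).symm
  have hH : homologyMap ((cx (EtCoh.push h)).map ((cx (EtCoh.pull e)).map α ≫ χ')) q =
      homologyMap ((cx (EtCoh.push h)).map (χ ≫ β)) q :=
    (Functor.mapHomotopy (EtCoh.push h) hom).homologyMap_eq q
  refine (homologyMap_comp _ _ _).symm.trans (Eq.trans ?_ (homologyMap_comp _ _ _))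
  rw [e1, e2]
  show homologyMap (_ ≫ _) q = homologyMap (_ ≫ _) q
  rw [homologyMap_comp, homologyMap_comp, hH]

/-- The base change maps are natural in the sheaf. -/
theorem bcQ_naturality (q : ℕ) {F F' : EtCoh.Ab T} (a : F ⟶ F') :
    (EtCoh.pull f).map ((EtCoh.Rpush g q).map a) ≫ EtBC.bcQ g f h e w q F' =
      EtBC.bcQ g f h e w q F ≫ (EtCoh.Rpush h q).map ((EtCoh.pull e).map a) := by
  let I := injectiveResolution F
  let I' := injectiveResolution F'
  let J := injectiveResolution ((EtCoh.pull e).obj F)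
  let J' := injectiveResolution ((EtCoh.pull e).obj F')
  let α := InjectiveResolution.desc a I' I
  let β := InjectiveResolution.desc ((EtCoh.pull e).map a) J' J
  have hα : I.ι.f 0 ≫ α.f 0 = a ≫ I'.ι.f 0 := InjectiveResolution.desc_commutes_zero _ _ _
  have hβ : J.ι.f 0 ≫ β.f 0 = (EtCoh.pull e).map a ≫ J'.ι.f 0 := InjectiveResolution.desc_commutes_zero _ _ _
  have hI := InjectiveResolution.isoRightDerivedObj_hom_naturality a I I' α hα (EtCoh.push g) q
  have hJ := InjectiveResolution.isoRightDerivedObj_inv_naturality ((EtCoh.pull e).map a) J J' β hβ (EtCoh.push h) q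
  let K := (cx (EtCoh.pull e)).obj I.cocomplex
  let ιK : (CochainComplex.single₀ _).obj ((EtCoh.pull e).obj F) ⟶ K := RDer.mapAug (EtCoh.pull e) I.ι
  haveI : _root_.QuasiIso ιK := by
    show _root_.QuasiIso ((singleMapHomologicalComplex (EtCoh.pull e) (ComplexShape.up ℕ) 0).inv.app F ≫
      (cx (EtCoh.pull e)).map I.ι)
    infer_instance
  have hι : ιK.f 0 = (EtCoh.pull e).map (I.ι.f 0) := mapAug_f_zero _ _
  obtain ⟨hom⟩ := nonempty_homotopy K ιK J'.cocomplex ((cx (EtCoh.pull e)).map α ≫ χK e F') (χK e F ≫ β) (by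
    rw [hι, comp_f, comp_f, reassoc_of% (ι_χK e F), hβ, Functor.mapHomologicalComplex_map_f]
    rw [← Functor.map_comp_assoc, hα, Functor.map_comp_assoc]
    exact congrArg ((EtCoh.pull e).map a ≫ ·) (ι_χK e F'))
  have hψ := homologyMap_ψ_natural f g h e w (χK e F) (χK e F') α β hom q
  rw [bcQ_eq g f h e w F I J (χK e F) (ι_χK e F) q, bcQ_eq g f h e w F' I' J' (χK e F') (ι_χK e F') q]
  simp only [Category.assoc]
  have hI' : (EtCoh.Rpush g q).map a ≫ (I'.isoRightDerivedObj (EtCoh.push g) q).hom =
      (I.isoRightDerivedObj (EtCoh.push g) q).hom ≫ homologyMap ((cx (EtCoh.push g)).map α) q := hI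
  rw [← Functor.map_comp_assoc, hI', Functor.map_comp_assoc]
  refine congrArg (fun z => (EtCoh.pull f).map (I.isoRightDerivedObj (EtCoh.push g) q).hom ≫ z) ?_
  erw [reassoc_of% (ShortComplex.mapHomologyIso_inv_naturality
    ((HomologicalComplex.shortComplexFunctor _ (ComplexShape.up ℕ) q).map ((cx (EtCoh.push g)).map α)) (EtCoh.pull f))]
  refine congrArg (fun z => ((((cx (EtCoh.push g)).obj I.cocomplex).sc q).mapHomologyIso (EtCoh.pull f)).inv ≫ z) ?_
  have hJ' : (J.isoRightDerivedObj (EtCoh.push h) q).inv ≫ (EtCoh.Rpush h q).map ((EtCoh.pull e).map a) =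
      homologyMap ((cx (EtCoh.push h)).map β) q ≫ (J'.isoRightDerivedObj (EtCoh.push h) q).inv := hJ
  rw [hJ']
  exact (Category.assoc _ _ _).symm.trans ((congrArg (fun z => z ≫ (J'.isoRightDerivedObj (EtCoh.push h) q).inv) hψ).trans
    (Category.assoc _ _ _))

/-- The cokernel of the base change map, as a functor. -/
noncomputable def coker (q : ℕ) : EtCoh.Ab T ⥤ EtCoh.Ab X where
  obj F := cokernel (EtBC.bcQ g f h e w q F)
  map a := cokernel.map _ _ ((EtCoh.pull f).map ((EtCoh.Rpush g q).map a))
    ((EtCoh.Rpush h q).map ((EtCoh.pull e).map a)) (bcQ_naturality f g h e w q a).symm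
  map_id F := by
    rw [← cancel_epi (cokernel.π (EtBC.bcQ g f h e w q F))]
    simp
  map_comp a b := by
    rw [← cancel_epi (cokernel.π (EtBC.bcQ g f h e w q _))]
    simp

lemma π_coker_map (q : ℕ) {F F' : EtCoh.Ab T} (a : F ⟶ F') :
    cokernel.π (EtBC.bcQ g f h e w q F) ≫ (coker f g h e w q).map a =
      (EtCoh.Rpush h q).map ((EtCoh.pull e).map a) ≫ cokernel.π (EtBC.bcQ g f h e w q F') :=
  cokernel.π_desc _ _ _

instance additive_coker (q : ℕ) : (coker f g h e w q).Additive where
  map_add {F F'} {a b} := by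
    rw [← cancel_epi (cokernel.π (EtBC.bcQ g f h e w q F)), Preadditive.comp_add, π_coker_map, π_coker_map,
      π_coker_map, ← Preadditive.add_comp, (EtCoh.pull e).map_add, (EtCoh.Rpush h q).map_add]

/-- The projection to the cokernel, as a natural transformation. -/
noncomputable def cokerπ (q : ℕ) : EtCoh.pull e ⋙ EtCoh.Rpush h q ⟶ coker f g h e w q where
  app F := cokernel.π (EtBC.bcQ g f h e w q F)
  naturality _ _ a := (π_coker_map f g h e w q a).symm

/-- The cokernels commute with colimits with which the source and target commute. -/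
theorem preservesColimitsOfShape_coker (q : ℕ) (J : Type u) [SmallCategory J]
    [PreservesColimitsOfShape J (EtCoh.pull e ⋙ EtCoh.Rpush h q)]
    [PreservesColimitsOfShape J (EtCoh.Rpush g q ⋙ EtCoh.pull f)] :
    PreservesColimitsOfShape J (coker f g h e w q) := by
  refine ⟨fun {D} => ⟨fun {c} hc => ⟨?_⟩⟩⟩
  have hB : IsColimit ((EtCoh.pull e ⋙ EtCoh.Rpush h q).mapCocone c) := isColimitOfPreserves _ hc
  have hA : IsColimit ((EtCoh.Rpush g q ⋙ EtCoh.pull f).mapCocone c) := isColimitOfPreserves _ hc
  let p := fun (s : Cocone (D ⋙ coker f g h e w q)) =>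
    hB.desc { pt := s.pt
              ι := { app := fun j => (cokerπ f g h e w q).app (D.obj j) ≫ s.ι.app j
                     naturality := fun j k m => by
                       have h1 := (cokerπ f g h e w q).naturality (D.map m)
                       have h2 := s.w m
                       simp only [Functor.comp_map] at h1 h2 ⊢
                       rw [reassoc_of% h1, h2]
                       exact (Category.comp_id _).symm } }
  have hp : ∀ s j, (EtCoh.Rpush h q).map ((EtCoh.pull e).map (c.ι.app j)) ≫ p s =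
      cokernel.π (EtBC.bcQ g f h e w q (D.obj j)) ≫ s.ι.app j := fun s j => hB.fac _ j
  refine
    { desc := fun s => cokernel.desc (EtBC.bcQ g f h e w q c.pt) (p s) (hA.hom_ext fun j => ?_)
      fac := fun s j => ?_
      uniq := fun s m hm => ?_ }
  · show (EtCoh.pull f).map ((EtCoh.Rpush g q).map (c.ι.app j)) ≫ _ = _
    have hn := bcQ_naturality f g h e w q (F := D.obj j) (F' := c.pt) (c.ι.app j)
    erw [reassoc_of% hn]
    erw [hp s j]
    rw [cokernel.condition_assoc, zero_comp, comp_zero]
  · show (coker f g h e w q).map (c.ι.app j) ≫ _ = _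
    rw [← cancel_epi (cokernel.π (EtBC.bcQ g f h e w q (D.obj j)))]
    erw [reassoc_of% (π_coker_map f g h e w q (F := D.obj j) (F' := c.pt) (c.ι.app j)), cokernel.π_desc]
    exact hp s j
  · rw [← cancel_epi (cokernel.π (EtBC.bcQ g f h e w q c.pt)), cokernel.π_desc]
    refine hB.hom_ext fun j => ?_
    show (EtCoh.Rpush h q).map ((EtCoh.pull e).map (c.ι.app j)) ≫ _ = _
    erw [hp s j]
    rw [← hm j]
    exact (Category.assoc _ _ _).symm.trans ((congrArg (· ≫ m) (π_coker_map f g h e w q (c.ι.app j))).symm.trans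
      (Category.assoc _ _ _))

end Groth.Agent.BCField24
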