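import Groth.Agent.Lib.BCField24.Main
import Groth.Agent.Lib.BCField24.ConstRed
import Groth.Agent.Lib.BCField24.IntClosure
import Groth.Agent.Lib.EtBCQ24.EtaleBC
import Groth.Agent.Lib.EtStalk.Integral
import Groth.Agent.Lib.RDComp.Post
import Groth.Agent.Lib.ExtDerived.Natural
import Mathlib.AlgebraicGeometry.Morphisms.Integral

/-!
# Vanishing at algebraically closed points from vanishing over normal bases
-/

set_option autoImplicit false
set_option linter.style.haveILetI false
set_option linter.unusedSectionVars false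
set_option backward.isDefEq.respectTransparency false
set_option backward.isDefEq.respectTransparency.types false

universe u

open CategoryTheory CategoryTheory.Limits AlgebraicGeometry Opposite

namespace Groth.Agent.BCField24

open Groth.Agent.EtStalk

/-- Vanishing of higher direct images of constant cyclic sheaves from dominant algebraically closed points of
normal affine schemes with algebraically closed function field. -/
def NormalVanish {X S : Scheme.{u}} (f : X ⟶ S) (n q : ℕ) : Prop :=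
  ∀ (S' X' Y : Scheme.{u}), IsAffine S' → ∀ (_ : IsIntegral S'), (∀ s : S', IsIntegrallyClosed (S'.presheaf.stalk s)) →
    IsAlgClosed S'.functionField → ∀ (p : S' ⟶ S) (f' : X' ⟶ S') (r : X' ⟶ X), IsPullback r f' f p →
    ∀ (K : Type u) [Field K], IsAlgClosed K → ∀ (g : Spec (CommRingCat.of K) ⟶ S'), IsDominant g →
    ∀ (h : Y ⟶ X') (e : Y ⟶ Spec (CommRingCat.of K)), IsPullback e h g f' → ∀ d : ℕ, d ∣ n →
      IsZero ((EtCoh.Rpush h q).obj (EtCoh.const Y (ZMod d)))

theorem isPullback_cancel_mono {C : Type*} [Category C] {P X T S S' : C} {e : P ⟶ T} {h : P ⟶ X} {g : T ⟶ S}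
    {f : X ⟶ S} (m : S ⟶ S') [Mono m] (c : IsPullback e h (g ≫ m) (f ≫ m)) : IsPullback e h g f := by
  have w : e ≫ g = h ≫ f := by
    rw [← cancel_mono m, Category.assoc, Category.assoc]
    exact c.w
  exact ⟨⟨w⟩, ⟨PullbackCone.IsLimit.mk _ (fun s => c.lift s.fst s.snd (by rw [s.condition_assoc]))
    (fun s => c.lift_fst _ _ _) (fun s => c.lift_snd _ _ _)
    (fun s l h1 h2 => c.hom_ext (by rw [h1, c.lift_fst]) (by rw [h2, c.lift_snd]))⟩⟩

/-- A higher direct image along a composite with an integral morphism vanishes with that along the first one. -/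
theorem isZero_Rpush_comp_integral {X X' Y : Scheme.{u}} (π : X' ⟶ X) [IsIntegralHom π] (h : Y ⟶ X')
    (F : EtCoh.Ab Y) (q : ℕ) (hz : IsZero ((EtCoh.Rpush h q).obj F)) :
    IsZero ((EtCoh.Rpush (h ≫ π) q).obj F) := by
  haveI := preservesFiniteColimits_push_integral π
  haveI := (EtCoh.pullPushAdj π).isRightAdjoint
  haveI : (EtCoh.push π).Additive := (EtCoh.pullPushAdj π).right_adjoint_additive
  haveI : (EtCoh.push h).Additive := (EtCoh.pullPushAdj h).right_adjoint_additive
  haveI : (EtCoh.push (h ≫ π)).Additive := (EtCoh.pullPushAdj (h ≫ π)).right_adjoint_additive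
  haveI : PreservesFiniteLimits (EtCoh.push π) := inferInstance
  haveI : (EtCoh.push π).PreservesHomology :=
    ((Functor.exact_tfae (EtCoh.push π)).out 2 3 rfl rfl).2 ⟨inferInstance, inferInstance⟩
  exact ((EtCoh.push π).map_isZero hz).of_iso
    (((ExtDerived.rightDerivedMapIso q (EtCoh.pushComp π h)).symm ≪≫
      RDComp.rightDerivedPostIso (EtCoh.push h) (EtCoh.push π) q).app F)

variable {X S : Scheme.{u}} (f : X ⟶ S) (n q : ℕ)

/-- Vanishing over the spectrum of a ring, through its integral closure in the field. -/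
theorem isZero_spec (hn : 0 < n) (hC : NormalVanish f n q) (A : Type u) [CommRing A] (Ω : Type u) [Field Ω]
    [IsAlgClosed Ω] (φ : A →+* Ω) {X₁ Y : Scheme.{u}} (p₁ : Spec (CommRingCat.of A) ⟶ S)
    (f₁ : X₁ ⟶ Spec (CommRingCat.of A)) (r₁ : X₁ ⟶ X) (hX : IsPullback r₁ f₁ f p₁)
    (h : Y ⟶ X₁) (e : Y ⟶ Spec (CommRingCat.of Ω)) (c : IsPullback e h (Spec.map (CommRingCat.ofHom φ)) f₁)
    (G : EtCoh.Ab (Spec (CommRingCat.of Ω))) (hG : EtCoh.KilledBy n G) :
    IsZero ((EtCoh.Rpush h q).obj ((EtCoh.pull e).obj G)) := by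
  letI := φ.toAlgebra
  let B := integralClosure A Ω
  let π₀ : Spec (CommRingCat.of B) ⟶ Spec (CommRingCat.of A) := Spec.map (CommRingCat.ofHom (algebraMap A B))
  let g' : Spec (CommRingCat.of Ω) ⟶ Spec (CommRingCat.of B) := Spec.map (CommRingCat.ofHom (algebraMap B Ω))
  have hg : g' ≫ π₀ = Spec.map (CommRingCat.ofHom φ) := by
    rw [← Spec.map_comp]
    rfl
  haveI : IsIntegralHom π₀ := (IsIntegralHom.SpecMap_iff).2 (fun b => Algebra.IsIntegral.isIntegral b)
  let π : pullback f₁ π₀ ⟶ X₁ := pullback.fst f₁ π₀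
  let f' : pullback f₁ π₀ ⟶ Spec (CommRingCat.of B) := pullback.snd f₁ π₀
  haveI : IsIntegralHom π := MorphismProperty.pullback_fst _ _ inferInstance
  have hw : h ≫ f₁ = (e ≫ g') ≫ π₀ := by rw [Category.assoc, hg]; exact c.w.symm
  let h' : Y ⟶ pullback f₁ π₀ := pullback.lift h (e ≫ g') hw
  have hh : h' ≫ π = h := pullback.lift_fst _ _ _
  have c' : IsPullback h' e f' g' :=
    IsPullback.of_right (h₁₂ := π) (v₁₃ := f₁) (h₂₂ := π₀) (by rw [hh, hg]; exact c.flip)
      (pullback.lift_snd _ _ _) (IsPullback.of_hasPullback f₁ π₀)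
  haveI : QuasiCompact h' := MorphismProperty.of_isPullback c'.flip inferInstance
  haveI : QuasiSeparated h' := MorphismProperty.of_isPullback c'.flip inferInstance
  haveI : IsDomain (CommRingCat.of B) := inferInstanceAs (IsDomain B)
  haveI : IsIntegrallyClosed B := isIntegrallyClosed_integralClosure A Ω
  rw [← hh]
  refine isZero_Rpush_comp_integral π h' _ q (isZero_Rpush_pull_of_const h' e q n hn (fun d hd => ?_) G hG)
  exact hC (Spec (CommRingCat.of B)) (pullback f₁ π₀) Y inferInstance inferInstance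
    (fun s => isIntegrallyClosed_stalk_spec B s) (isAlgClosed_functionField A Ω) (π₀ ≫ p₁) f' (π ≫ r₁)
    ((IsPullback.of_hasPullback f₁ π₀).paste_horiz hX) Ω ‹_› g'
    (isDominant_of_injective _ Subtype.val_injective) h' e c'.flip d hd

/-- Vanishing at all algebraically closed points. -/
theorem ptVanish_of_normal (hn : 0 < n) (hC : NormalVanish f n q) : PtVanish f n q := by
  intro S₁ X₁ Y₁ p₁ f₁ r₁ hX Ω _ _ g₁ h₁ e₁ c₁ _ _ G hG
  rw [isZero_iff_stalk]
  intro Ω' _ _ ξ
  obtain ⟨O, hO, hs, -⟩ := exists_isAffineOpen_mem_and_subset (X := S₁) (x := f₁ (ξ default)) (U := ⊤) trivial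
  let v := hO.fromSpec
  let fV : pullback v f₁ ⟶ Spec Γ(S₁, O) := pullback.fst v f₁
  let j : pullback v f₁ ⟶ X₁ := pullback.snd v f₁
  have hv : Set.range v = O := hO.range_fromSpec
  have hrange : Set.range ξ ⊆ Set.range j := by
    rintro _ ⟨o, rfl⟩
    obtain rfl : o = default := Subsingleton.elim _ _
    rw [show (Set.range j : Set X₁) = _ from Scheme.Pullback.range_snd v f₁]
    exact (show f₁ (ξ default) ∈ Set.range v from hv.symm ▸ hs)
  let ξ' := IsOpenImmersion.lift j ξ hrange
  have hξ : ξ' ≫ j = ξ := IsOpenImmersion.lift_fac _ _ _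
  haveI : AlgebraicGeometry.Etale j := inferInstance
  let t : pullback h₁ j ⟶ Y₁ := pullback.fst h₁ j
  let hV : pullback h₁ j ⟶ pullback v f₁ := pullback.snd h₁ j
  haveI : AlgebraicGeometry.Etale t := inferInstance
  have sq : IsPullback t hV h₁ j := IsPullback.of_hasPullback h₁ j
  suffices hz : IsZero ((EtCoh.Rpush hV q).obj ((EtCoh.pull t).obj ((EtCoh.pull e₁).obj G))) by
    haveI := EtBCQ24.isIso_bcQ_etale h₁ j hV t sq ((EtCoh.pull e₁).obj G) q
    have h1 := hz.of_iso (asIso (EtBC.bcQ h₁ j hV t sq.w q ((EtCoh.pull e₁).obj G)))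
    haveI := AddCommGrpCat.subsingleton_of_isZero ((isZero_iff_stalk _).1 h1 Ω' ξ')
    haveI := (Equiv.ofBijective _ (ConcreteCategory.bijective_of_isIso
      (stalkPull j ξ' ((EtCoh.Rpush h₁ q).obj ((EtCoh.pull e₁).obj G))))).subsingleton
    rw [← hξ]
    exact AddCommGrpCat.isZero_of_subsingleton _
  by_cases hp : g₁ default ∈ Set.range v
  · let gV : Spec (CommRingCat.of Ω) ⟶ Spec Γ(S₁, O) := IsOpenImmersion.lift v g₁ (by
      rintro _ ⟨o, rfl⟩
      rw [Subsingleton.elim o default]
      exact hp)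
    have hgV : gV ≫ v = g₁ := IsOpenImmersion.lift_fac _ _ _
    have cV : IsPullback (t ≫ e₁) hV gV fV := by
      refine isPullback_cancel_mono v ?_
      rw [hgV, show fV ≫ v = j ≫ f₁ from pullback.condition]
      exact (sq.flip.paste_vert c₁.flip).flip
    obtain ⟨φ, hφ⟩ : ∃ φ : Γ(S₁, O) →+* Ω, Spec.map (CommRingCat.ofHom φ) = gV :=
      ⟨(Spec.preimage gV).hom, Spec.map_preimage gV⟩
    rw [← hφ] at cV
    exact (isZero_spec f n q hn hC Γ(S₁, O) Ω φ (v ≫ p₁) fV (j ≫ r₁)
      ((IsPullback.of_hasPullback v f₁).flip.paste_horiz hX) hV (t ≫ e₁) cV G hG).of_iso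
      ((EtCoh.Rpush hV q).mapIso ((EtCore.pullComp t e₁).app G).symm)
  · haveI : IsEmpty ↥(pullback h₁ j) := ⟨fun y => hp ?_⟩
    · refine (EtCoh.Rpush hV q).map_isZero ?_
      rw [isZero_iff_stalk]
      exact fun K _ _ η => (IsEmpty.false (η default)).elim
    · have e : g₁ (e₁ (t y)) = v (fV (hV y)) := by
        have e' : t ≫ e₁ ≫ g₁ = hV ≫ fV ≫ v := by
          rw [c₁.w, ← Category.assoc, sq.w, Category.assoc]
          exact congrArg (hV ≫ ·) pullback.condition.symm
        exact congrArg (fun m : pullback h₁ j ⟶ S₁ => m y) e'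
      rw [Subsingleton.elim (e₁ (t y)) default] at e
      exact ⟨_, e.symm⟩

end Groth.Agent.BCField24
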