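import Groth.Agent.Lib.EtAcyc24.BCTransfer
import Groth.Agent.Lib.Embed24.PushColim
import Groth.Agent.Lib.Embed24.Points
import Groth.Agent.Lib.BCField24.Natural

/-!
# Base change for sheaves supported at a geometric point
-/

set_option autoImplicit false
set_option linter.style.haveILetI false
set_option linter.unusedSectionVars false
set_option backward.isDefEq.respectTransparency false
set_option backward.isDefEq.respectTransparency.types false

universe u

open CategoryTheory CategoryTheory.Limits AlgebraicGeometry Opposite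

namespace Groth.Agent.BCField24

open Groth.Agent.EtStalk Groth.Agent.EtAcyc24

/-- Sheaves without higher cohomology are stable under isomorphism. -/
theorem acyc_of_iso {A : Scheme.{u}} {F G : EtCoh.Ab A} (i : F ≅ G) (hF : EtFlasque24.Acyc F) :
    EtFlasque24.Acyc G := fun W q hq => by
  exact @Function.Surjective.subsingleton _ _ _ (hF W q hq) (bijective_comp_iso ((EtCoh.pull W.hom).mapIso i) q).2

/-- Sheaves on a separably closed point have no higher cohomology. -/
theorem acyc_point (Ω : Type u) [Field Ω] [IsSepClosed Ω] (G : EtCoh.Ab (Spec (CommRingCat.of Ω))) :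
    EtFlasque24.Acyc G := by
  let Ωf : PUnit.{u + 1} → Type u := fun _ => Ω
  let π : (∐ fun i => Spec (CommRingCat.of (Ωf i)) : Scheme.{u}) ⟶ Spec (CommRingCat.of Ω) :=
    Sigma.desc fun _ => 𝟙 _
  haveI : IsIso π := by
    refine ⟨Sigma.ι (fun i => Spec (CommRingCat.of (Ωf i))) PUnit.unit, ?_, Sigma.ι_desc _ _⟩
    refine Sigma.hom_ext _ _ fun b => ?_
    rw [Sigma.ι_desc_assoc, Category.id_comp, Category.comp_id]
  haveI : IsIso ((EtCoh.pullPushAdj π).unit.app G) := Embed24.isIso_uHom_of_isIso π G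
  exact acyc_of_iso (asIso ((EtCoh.pullPushAdj π).unit.app G)).symm
    (EtFlasque24.acyc_push π (Embed24.acyc_pts Ωf _))

/-- Without higher direct images in degrees below `q`, a higher direct image of a direct image injects into
that of the composite. -/
theorem isZero_Rpush_push {X Y Z : Scheme.{u}} (h : Y ⟶ X) (k : Z ⟶ Y) (w : Z ⟶ X) (hw : k ≫ h = w) :
    ∀ (q : ℕ) (M : EtCoh.Ab Z), 1 ≤ q → (∀ a, 1 ≤ a → a < q → IsZero ((EtCoh.Rpush k a).obj M)) →
      IsZero ((EtCoh.Rpush w q).obj M) → IsZero ((EtCoh.Rpush h q).obj ((EtCoh.push k).obj M)) := by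
  subst hw
  intro q
  induction q with
  | zero => intro M h1; omega
  | succ m ih =>
    intro M _ hk hz
    let S := ShortComplex.mk (Injective.ι M) (cokernel.π (Injective.ι M)) (cokernel.condition _)
    have hS : S.ShortExact := { exact := ShortComplex.exact_cokernel (Injective.ι M) }
    haveI : Injective S.X₂ := inferInstanceAs (Injective (Injective.under M))
    haveI hkI : Injective ((EtCoh.push k).obj S.X₂) := injective_push k S.X₂
    rcases m with _ | m
    · let S' := ShortComplex.mk ((EtCoh.push k).map S.f) (cokernel.π ((EtCoh.push k).map S.f)) (cokernel.condition _)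
      haveI : Mono S.f := hS.mono_f
      haveI : Mono S'.f := EtLim24.mono_push_map k S.f
      have hS' : S'.ShortExact := { exact := ShortComplex.exact_cokernel ((EtCoh.push k).map S.f) }
      haveI : Injective S'.X₂ := hkI
      let j : S'.X₃ ⟶ (EtCoh.push k).obj S.X₃ := cokernel.desc _ ((EtCoh.push k).map S.g)
        (by rw [← Functor.map_comp, S.zero, Functor.map_zero])
      haveI := (EtCoh.pullPushAdj k).isRightAdjoint
      have hex : (S.map (EtCoh.push k)).Exact := hS.exact.map_of_mono_of_preservesKernel _ inferInstance inferInstance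
      haveI : Mono j := hex.mono_cokernelDesc
      haveI := EtLim24.mono_push_map h j
      obtain ⟨T⟩ := RDerLES.exists_sesRes hS
      obtain ⟨-, ⟨v, hv⟩, -⟩ := RDerLES.exact_sequences (EtCoh.push (k ≫ h)) T 0 1 rfl
      have hepi : Epi ((EtCoh.push (k ≫ h)).map S.g) := by
        have h0 : Epi (((EtCoh.push (k ≫ h)).rightDerived 0).map S.g) := hv.epi_f (hz.eq_of_tgt _ _)
        exact ((MorphismProperty.epimorphisms _).arrow_mk_iso_iff
          (Arrow.isoMk' _ _ ((EtCoh.push (k ≫ h)).rightDerivedZeroIsoSelf.app S.X₂)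
            ((EtCoh.push (k ≫ h)).rightDerivedZeroIsoSelf.app S.X₃)
            ((EtCoh.push (k ≫ h)).rightDerivedZeroIsoSelf.hom.naturality S.g).symm)).1 h0
      have hepi' : Epi ((EtCoh.push h).map ((EtCoh.push k).map S.g)) :=
        ((MorphismProperty.epimorphisms _).arrow_mk_iso_iff
          (Arrow.isoMk' _ _ ((EtCoh.pushComp h k).app S.X₂) ((EtCoh.pushComp h k).app S.X₃)
            ((EtCoh.pushComp h k).hom.naturality S.g).symm)).2 hepi
      have e : (EtCoh.push h).map S'.g ≫ (EtCoh.push h).map j = (EtCoh.push h).map ((EtCoh.push k).map S.g) := by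
        rw [← Functor.map_comp]
        exact congrArg (EtCoh.push h).map (cokernel.π_desc _ _ _)
      haveI : Epi ((EtCoh.push h).map j) := by
        rw [← e] at hepi'
        exact epi_of_epi ((EtCoh.push h).map S'.g) _
      haveI : IsIso ((EtCoh.push h).map j) := isIso_of_mono_of_epi _
      haveI : Epi ((EtCoh.push h).map S'.g) := by
        have e' : (EtCoh.push h).map S'.g = (EtCoh.push h).map ((EtCoh.push k).map S.g) ≫ inv ((EtCoh.push h).map j) := by
          rw [← e, Category.assoc, IsIso.hom_inv_id, Category.comp_id]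
        rw [e']
        infer_instance
      obtain ⟨T'⟩ := RDerLES.exists_sesRes hS'
      obtain ⟨-, ⟨v₁, hv₁⟩, ⟨v₂, hv₂⟩⟩ := RDerLES.exact_sequences (EtCoh.push h) T' 0 1 rfl
      haveI : Epi (((EtCoh.push h).rightDerived 0).map S'.g) :=
        ((MorphismProperty.epimorphisms _).arrow_mk_iso_iff
          (Arrow.isoMk' _ _ ((EtCoh.push h).rightDerivedZeroIsoSelf.app S'.X₂)
            ((EtCoh.push h).rightDerivedZeroIsoSelf.app S'.X₃)
            ((EtCoh.push h).rightDerivedZeroIsoSelf.hom.naturality S'.g).symm)).2 ‹_›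
      exact hv₂.isZero_X₂ ((cancel_epi (((EtCoh.push h).rightDerived 0).map S'.g)).1 (v₁.trans comp_zero.symm))
        (((EtCoh.push h).isZero_rightDerived_obj_injective_succ 0 S'.X₂).eq_of_tgt _ _)
    · have hS' := shortExact_push_of_acyclic k hS (hk 1 le_rfl (by omega))
      have h3 := ih S.X₃ (by omega) (fun a ha ham => isZero_Rpush_cokernel k hS a ha (hk (a + 1) (by omega) (by omega)))
        (isZero_Rpush_cokernel (k ≫ h) hS (m + 1) m.succ_pos hz)
      haveI : Injective (S.map (EtCoh.push k)).X₂ := hkI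
      obtain ⟨T⟩ := RDerLES.exists_sesRes hS'
      obtain ⟨-, -, ⟨v, hv⟩⟩ := RDerLES.exact_sequences (EtCoh.push h) T (m + 1) (m + 2) rfl
      exact hv.isZero_X₂ (h3.eq_of_src _ _)
        (((EtCoh.push h).isZero_rightDerived_obj_injective_succ (m + 1) (S.map (EtCoh.push k)).X₂).eq_of_tgt _ _)

section Point

variable {X S Y T : Scheme.{u}} (f : X ⟶ S) (g : T ⟶ S) (h : Y ⟶ X) (e : Y ⟶ T) (w : e ≫ g = h ≫ f)

lemma isIso_baseChange0_of_bcQ [PreservesFiniteLimits (EtCoh.pull e)] (F : EtCoh.Ab T)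
    (hb : IsIso (EtBC.bcQ g f h e w 0 F)) : IsIso (EtCoh.baseChange0 g f h e w F) := by
  haveI := hb
  haveI := (EtCoh.pullPushAdj g).isRightAdjoint
  haveI := (EtCoh.pullPushAdj h).isRightAdjoint
  haveI : IsIso ((EtCoh.push g).toRightDerivedZero) := inferInstance
  haveI : IsIso ((EtCoh.push h).toRightDerivedZero) := inferInstance
  have e' := EtBC.bcQ_zero_compat g f h e w F
  have h2 : IsIso (EtCoh.baseChange0 g f h e w F ≫ (EtCoh.push h).toRightDerivedZero.app ((EtCoh.pull e).obj F)) := by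
    rw [← e']
    infer_instance
  exact IsIso.of_isIso_comp_right _ ((EtCoh.push h).toRightDerivedZero.app ((EtCoh.pull e).obj F))

variable {Yt : Scheme.{u}} {Ω : Type u} [Field Ω] [IsSepClosed Ω] (t : Spec (CommRingCat.of Ω) ⟶ T)
  (t' : Yt ⟶ Y) (e' : Yt ⟶ Spec (CommRingCat.of Ω)) (w' : e' ≫ t = t' ≫ e) (w'' : e' ≫ t ≫ g = (t' ≫ h) ≫ f)
  [PreservesFiniteLimits (EtCoh.pull e)] [PreservesFiniteLimits (EtCoh.pull e')]

/-- The higher direct image on the geometric point vanishes, and so does the cokernel of base change. -/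
theorem isZero_Rpush_pull_point (G : EtCoh.Ab (Spec (CommRingCat.of Ω))) (q : ℕ) (hq : 1 ≤ q)
    (hlow : ∀ a, a < q → IsIso (EtBC.bcQ t e t' e' w' a G))
    (hz : IsZero ((EtCoh.Rpush (t' ≫ h) q).obj ((EtCoh.pull e').obj G))) :
    IsZero ((EtCoh.Rpush h q).obj ((EtCoh.pull e).obj ((EtCoh.push t).obj G))) := by
  have hG := acyc_point Ω G
  have hk : ∀ a, 1 ≤ a → a < q → IsZero ((EtCoh.Rpush t' a).obj ((EtCoh.pull e').obj G)) := fun a ha haq => by
    haveI := hlow a haq
    haveI : (EtCoh.pull e).Additive := (EtCoh.pullPushAdj e).left_adjoint_additive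
    exact ((EtCoh.pull e).map_isZero (isZero_Rpush_of_acyc t hG a ha)).of_iso (asIso (EtBC.bcQ t e t' e' w' a G)).symm
  have h1 := isZero_Rpush_push h t' (t' ≫ h) rfl q _ hq hk hz
  haveI := isIso_baseChange0_of_bcQ e t t' e' w' G (hlow 0 hq)
  exact h1.of_iso ((EtCoh.Rpush h q).mapIso (asIso (EtCoh.baseChange0 t e t' e' w' G)))

/-- The cokernel of base change vanishes at a geometric point. -/
theorem isZero_coker_point (G : EtCoh.Ab (Spec (CommRingCat.of Ω))) (q : ℕ) (hq : 1 ≤ q)
    (hlow : ∀ a, a < q → IsIso (EtBC.bcQ t e t' e' w' a G))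
    (hz : IsZero ((EtCoh.Rpush (t' ≫ h) q).obj ((EtCoh.pull e').obj G))) :
    IsZero ((coker f g h e w q).obj ((EtCoh.push t).obj G)) :=
  IsZero.of_epi (cokernel.π (EtBC.bcQ g f h e w q ((EtCoh.push t).obj G)))
    (isZero_Rpush_pull_point h e t t' e' w' G q hq hlow hz)

/-- Over a separably closed point base change is an isomorphism in positive degree iff the target vanishes. -/
theorem isIso_bcQ_point_iff {S₁ X₁ Y₁ : Scheme.{u}} (f₁ : X₁ ⟶ S₁) (g₁ : Spec (CommRingCat.of Ω) ⟶ S₁)
    (h₁ : Y₁ ⟶ X₁) (e₁ : Y₁ ⟶ Spec (CommRingCat.of Ω)) (w₁ : e₁ ≫ g₁ = h₁ ≫ f₁)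
    [PreservesFiniteLimits (EtCoh.pull e₁)] (G : EtCoh.Ab (Spec (CommRingCat.of Ω))) (q : ℕ) (hq : 1 ≤ q) :
    IsIso (EtBC.bcQ g₁ f₁ h₁ e₁ w₁ q G) ↔ IsZero ((EtCoh.Rpush h₁ q).obj ((EtCoh.pull e₁).obj G)) := by
  haveI : (EtCoh.pull f₁).Additive := (EtCoh.pullPushAdj f₁).left_adjoint_additive
  have hs := (EtCoh.pull f₁).map_isZero (isZero_Rpush_of_acyc g₁ (acyc_point Ω G) q hq)
  exact ⟨fun h => hs.of_iso (asIso (EtBC.bcQ g₁ f₁ h₁ e₁ w₁ q G)).symm,
    fun h => ⟨⟨0, hs.eq_of_src _ _, h.eq_of_src _ _⟩⟩⟩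

end Point

end Groth.Agent.BCField24
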