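import Groth.Agent.Lib.LocAcyc24.TorsionConst
import Groth.Agent.Lib.ProperPush24.Fibre
import Groth.Agent.Lib.Constr24.SuppColim

/-!
# Sheaves on a separably closed point are constant
-/

set_option autoImplicit false
set_option linter.style.haveILetI false
set_option backward.isDefEq.respectTransparency.types false

universe u

open CategoryTheory CategoryTheory.Limits AlgebraicGeometry Opposite

namespace Groth.Agent.BCField24

open Groth.Agent.EtStalk Groth.Agent.LocAcyc24

variable {Ω : Type u} [Field Ω] [IsSepClosed Ω]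

/-- Over a separably closed field a morphism of sheaves which is bijective at the tautological point is
an isomorphism. -/
theorem isIso_of_bijective_id {F G : EtCoh.Ab (Spec (CommRingCat.of Ω))} (φ : F ⟶ G)
    (h : Function.Bijective ((EtCoh.stalk (𝟙 (Spec (CommRingCat.of Ω)))).map φ)) : IsIso φ := by
  haveI : Mono φ := by
    refine Preadditive.mono_of_isZero_kernel φ ?_
    rw [isZero_iff_stalk]
    intro Ω' _ _ ξ
    refine Constr24.isZero_stalk_congr ξ (𝟙 _) (Subsingleton.elim _ _) (subsingleton_of_forall_eq 0 fun a => ?_)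
    have hinj := (mono_iff_stalk (kernel.ι φ)).1 inferInstance Ω (𝟙 _)
    refine hinj (h.1 ?_)
    have h0 : (EtCoh.stalk (𝟙 (Spec (CommRingCat.of Ω)))).map (kernel.ι φ ≫ φ) a = 0 := by
      rw [kernel.condition, Functor.map_zero]
      rfl
    rw [map_zero, map_zero]
    exact (Functor.map_comp_apply _ (kernel.ι φ) φ a).symm.trans h0
  refine (isIso_iff_stalk φ).2 fun Ω' _ _ ξ => ⟨(mono_iff_stalk φ).1 inferInstance Ω' ξ, ?_⟩
  exact Constr24.surjective_stalk_congr φ ξ (𝟙 _) (Subsingleton.elim _ _) h.2

/-- Every sheaf on a separably closed point is the constant sheaf of its sections. -/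
theorem nonempty_iso_cs (G : EtCoh.Ab (Spec (CommRingCat.of Ω))) :
    Nonempty ((cs (Spec (CommRingCat.of Ω))).obj ((EtCore.gsec _).obj G) ≅ G) := by
  let adj := EtCore.constAdj (Spec (CommRingCat.of Ω))
  let M := (EtCore.gsec (Spec (CommRingCat.of Ω))).obj G
  let x : fib (𝟙 (Spec (CommRingCat.of Ω))) (EtCoh.top (Spec (CommRingCat.of Ω))) :=
    Over.homMk (𝟙 _) (Category.comp_id _)
  have htri : ∀ m : M, (adj.counit.app G).hom.app (op (EtCoh.top _)) (cst M (EtCoh.top _) m) = m := fun m =>
    ConcreteCategory.congr_hom (adj.right_triangle_components G) m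
  haveI : IsIso (adj.counit.app G) := isIso_of_bijective_id _ (by
    refine (Function.Bijective.of_comp_iff _ (bijective_germ_cst M (𝟙 _) x)).1 ?_
    refine (congrArg Function.Bijective (funext fun m => ?_)).mpr (ProperPush24.bijective_germ_top_field G)
    show (EtCoh.stalk _).map _ (germ _ _ x (cst M _ m)) = germ _ G x m
    exact (germ_nat _ (adj.counit.app G) x _).trans (congrArg (germ _ G x) (htri m)))
  exact ⟨asIso (adj.counit.app G)⟩

end Groth.Agent.BCField24
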